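import Cfsg.Agent.H643.Sd.Def
import Cfsg.Agent.S4582
import Cfsg.Prelude.Def_Transfer
import Mathlib.GroupTheory.FiniteAbelian.Duality
import Mathlib.RingTheory.RootsOfUnity.AlgebraicallyClosed
import Mathlib.GroupTheory.Transfer

/-!
# Tools for `Elem`
-/

set_option autoImplicit false

namespace Cfsg.Agent.H643.Sd

open Subgroup
open scoped commutatorElement

/-! ### `Lin2` -/

section Lin2

variable {P P' : Type*} [Group P] [Group P']

theorem Lin2.of_surjective (h : Lin2 P) (φ : P →* P') (hφ : Function.Surjective φ) : Lin2 P' := by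
  intro f x
  obtain ⟨y, rfl⟩ := hφ x
  exact h (f.comp φ) y

theorem Lin2.congr (h : Lin2 P) (e : P ≃* P') : Lin2 P' := h.of_surjective e.toMonoidHom e.surjective

/-- generation by a set -/
theorem sq_of_closure (f : P →* ℂˣ) (s : Set P) (h : ∀ x ∈ s, f x ^ 2 = 1) :
    ∀ x ∈ closure s, f x ^ 2 = 1 := by
  intro x hx
  induction hx using closure_induction with
  | mem x hx => exact h x hx
  | one => rw [map_one, one_pow]
  | mul x y _ _ hx hy => rw [map_mul, mul_pow, hx, hy, one_mul]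
  | inv x _ hx => rw [map_inv, inv_pow, hx, inv_one]

theorem lin2_of_closure (s : Set P) (hs : closure s = ⊤) (h : ∀ f : P →* ℂˣ, ∀ x ∈ s, f x ^ 2 = 1) : Lin2 P :=
  fun f x => sq_of_closure f s (h f) x (by rw [hs]; trivial)

/-- a homomorphism is real on subgroups with `Lin2` -/
theorem Lin2.apply_mem {H : Subgroup P} (h : Lin2 H) (f : P →* ℂˣ) {x : P} (hx : x ∈ H) : f x ^ 2 = 1 :=
  h (f.comp H.subtype) ⟨x, hx⟩

theorem sq_of_comm {f : P →* ℂˣ} {x : P} (hx : x ∈ commutator P) : f x = 1 := by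
  have h1 : commutator P ≤ f.ker := Abelianization.commutator_subset_ker f
  exact h1 hx

theorem sq_of_sq_mem_comm (f : P →* ℂˣ) {x : P} (hx : x ^ 2 ∈ commutator P) : f x ^ 2 = 1 := by
  rw [← map_pow]
  exact sq_of_comm hx

theorem sq_of_sq (f : P →* ℂˣ) {x : P} (hx : x ^ 2 = 1) : f x ^ 2 = 1 := by
  rw [← map_pow, hx, map_one]

theorem lin2_of_sq (h : ∀ x : P, x ^ 2 ∈ commutator P) : Lin2 P := fun f x => sq_of_sq_mem_comm f (h x)

theorem sq_mem_of_lin2 [Finite P] (h : Lin2 P) (x : P) : x ^ 2 ∈ commutator P := by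
  rw [← Abelianization.ker_of, MonoidHom.mem_ker]
  by_contra hne
  obtain ⟨φ, hφ⟩ := CommGroup.exists_apply_ne_one_of_hasEnoughRootsOfUnity (Abelianization P) ℂ hne
  apply hφ
  have h1 := h (φ.comp Abelianization.of) x
  rwa [MonoidHom.comp_apply, ← map_pow, ← map_pow] at h1

theorem lin2_iff [Finite P] : Lin2 P ↔ ∀ x : P, x ^ 2 ∈ commutator P :=
  ⟨sq_mem_of_lin2, lin2_of_sq⟩

theorem lin2_of_exponent (h : ∀ x : P, x ^ 2 = 1) : Lin2 P := fun f x => sq_of_sq f (h x)

end Lin2

/-! ### commutators of subgroups -/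

theorem mem_comm_of_subtype {G : Type*} [Group G] {P : Subgroup G} {x : P} :
    x ∈ commutator P ↔ (x : G) ∈ ⁅P, P⁆ := by
  rw [← Subgroup.map_subtype_commutator]
  constructor
  · intro h
    exact ⟨x, h, rfl⟩
  · rintro ⟨z, hz, hzy⟩
    have : z = x := Subtype.ext hzy
    subst this
    exact hz

theorem sq_mem_comm {G : Type*} [Group G] {P : Subgroup G} [Finite P] (h : Lin2 P) {x : G} (hx : x ∈ P) :
    x ^ 2 ∈ ⁅P, P⁆ :=
  mem_comm_of_subtype.1 (sq_mem_of_lin2 h ⟨x, hx⟩)

theorem lin2_of_mem {G : Type*} [Group G] {P : Subgroup G} (h : ∀ x ∈ P, x ^ 2 ∈ ⁅P, P⁆) : Lin2 P :=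
  lin2_of_sq fun x => mem_comm_of_subtype.2 (h x x.2)

/-! ### `Elem` -/

section Elem

variable {G G' : Type*} [Group G] [Group G']

/-- One Sylow subgroup is enough. -/
theorem elem_of_sylow [Finite G] (P : Sylow 2 G) (h : Lin2 (P : Subgroup G)) : Elem G := fun Q =>
  h.congr (P.equiv Q)

theorem Elem.of_surjective [Finite G] (h : Elem G) (φ : G →* G') (hφ : Function.Surjective φ) : Elem G' := by
  have : Finite G' := Finite.of_surjective φ hφ
  obtain ⟨P⟩ : Nonempty (Sylow 2 G) := inferInstance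
  refine elem_of_sylow (P.mapSurjective hφ) ?_
  exact (h P).of_surjective (φ.subgroupMap (P : Subgroup G)) (φ.subgroupMap_surjective _)

theorem Elem.congr [Finite G] (h : Elem G) (e : G ≃* G') : Elem G' :=
  Elem.of_surjective h e.toMonoidHom e.surjective

theorem Elem.quotient [Finite G] (h : Elem G) (N : Subgroup G) [N.Normal] : Elem (G ⧸ N) :=
  Elem.of_surjective h (QuotientGroup.mk' N) (QuotientGroup.mk'_surjective N)

/-- the image of a Sylow subgroup of a subgroup of odd index is a Sylow subgroup -/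
theorem card_sylow_map [Finite G] (H : Subgroup G) (hi : Odd H.index) (P : Sylow 2 H) :
    Nat.card ((P : Subgroup H).map H.subtype) = 2 ^ (Nat.card G).factorization 2 := by
  rw [Subgroup.card_map_of_injective H.subtype_injective, Sylow.card_eq_multiplicity, ← H.card_mul_index,
    Nat.factorization_mul Nat.card_pos.ne' H.index_ne_zero_of_finite,
    Finsupp.add_apply, Nat.factorization_eq_zero_of_not_dvd (n := H.index) (by
      rw [← even_iff_two_dvd, Nat.not_even_iff_odd]; exact hi), add_zero]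

theorem elem_of_odd_index [Finite G] (H : Subgroup G) (hi : Odd H.index) (h : Elem H) : Elem G := by
  obtain ⟨P⟩ : Nonempty (Sylow 2 H) := inferInstance
  refine elem_of_sylow (Sylow.ofCard _ (card_sylow_map H hi P)) ?_
  rw [Sylow.coe_ofCard]
  exact (h P).congr (Subgroup.equivMapOfInjective _ _ H.subtype_injective)

theorem Elem.of_odd_index [Finite G] (h : Elem G) (H : Subgroup G) (hi : Odd H.index) : Elem H := by
  obtain ⟨P⟩ : Nonempty (Sylow 2 H) := inferInstance
  refine elem_of_sylow P ?_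
  have h1 := h (Sylow.ofCard _ (card_sylow_map H hi P))
  rw [Sylow.coe_ofCard] at h1
  exact h1.congr (Subgroup.equivMapOfInjective _ _ H.subtype_injective).symm

/-- groups of odd order -/
theorem elem_of_odd [Finite G] (h : Odd (Nat.card G)) : Elem G := by
  intro P f x
  have h1 : Nat.card (P : Subgroup G) ∣ Nat.card G := Subgroup.card_subgroup_dvd_card _
  have h2 : Nat.card (P : Subgroup G) = 1 := by
    obtain ⟨n, hn⟩ := (IsPGroup.iff_card (p := 2)).1 P.2
    rcases n with _ | n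
    · rw [hn, pow_zero]
    · exfalso
      have h3 : 2 ∣ Nat.card G := (Dvd.intro_left _ (pow_succ 2 n).symm).trans (hn ▸ h1)
      exact (Nat.not_even_iff_odd.2 h) (even_iff_two_dvd.2 h3)
  have : Subsingleton (P : Subgroup G) := (Nat.card_eq_one_iff_unique.1 h2).1
  rw [Subsingleton.elim x 1, map_one, one_pow]

/-- `2`-groups: `Elem` is `Lin2`. -/
theorem elem_of_pgroup [Finite G] (hG : IsPGroup 2 G) : Elem G ↔ Lin2 G := by
  have h1 : (⊤ : Subgroup G).index.Coprime 1 := by simp
  obtain ⟨n, hn⟩ := (IsPGroup.iff_card (p := 2)).1 hG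
  have hc : Nat.card (⊤ : Subgroup G) = 2 ^ (Nat.card G).factorization 2 := by
    rw [Subgroup.card_top, hn, Nat.Prime.factorization_pow Nat.prime_two, Finsupp.single_eq_same]
  constructor
  · intro h
    have h2 := h (Sylow.ofCard ⊤ hc)
    rw [Sylow.coe_ofCard] at h2
    exact h2.congr Subgroup.topEquiv
  · intro h
    refine elem_of_sylow (Sylow.ofCard ⊤ hc) ?_
    rw [Sylow.coe_ofCard]
    exact h.congr Subgroup.topEquiv.symm

theorem elem_iff [Finite G] : Elem G ↔ ∀ (P : Sylow 2 G) (x : (P : Subgroup G)), x ^ 2 ∈ commutator (P : Subgroup G) :=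
  forall_congr' fun _ => lin2_iff

end Elem

/-! ### characters trivial on a normal subgroup; E1, E2, E3 -/

section Normal

variable {G : Type*} [Group G] [Finite G]

/-- A linear character of a Sylow subgroup which is trivial on `P ∩ N` has order at most two if `Elem (G ⧸ N)`. -/
theorem sq_of_trivial (N : Subgroup G) [N.Normal] (hq : Elem (G ⧸ N)) (P : Sylow 2 G) (f : (P : Subgroup G) →* ℂˣ)
    (hf : ∀ x : (P : Subgroup G), (x : G) ∈ N → f x = 1) (x : (P : Subgroup G)) : f x ^ 2 = 1 := by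
  classical
  let π : G →* G ⧸ N := QuotientGroup.mk' N
  let φ : (P : Subgroup G) →* ((P : Subgroup G).map π) := π.subgroupMap (P : Subgroup G)
  have hφ : Function.Surjective φ := π.subgroupMap_surjective _
  have hker : φ.ker ≤ f.ker := by
    intro y hy
    rw [MonoidHom.mem_ker] at hy ⊢
    apply hf
    have h1 : π (y : G) = 1 := congrArg Subtype.val hy
    exact (QuotientGroup.eq_one_iff _).1 h1
  let g : ((P : Subgroup G).map π) →* ℂˣ := φ.liftOfSurjective hφ ⟨f, hker⟩
  have hg : ∀ y, g (φ y) = f y := fun y => φ.liftOfRightInverse_comp_apply _ _ ⟨f, hker⟩ y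
  have h2 : Lin2 ((P : Subgroup G).map π) := hq (P.mapSurjective (QuotientGroup.mk'_surjective N))
  rw [← hg]
  exact h2 g (φ x)

omit [Finite G] in
/-- For `N ⊴ G` the index of `H ∩ N` in `N` divides the index of `H`. -/
theorem relIndex_dvd_index [Finite G] (H N : Subgroup G) [N.Normal] : H.relIndex N ∣ H.index := by
  have h1 : (H ⊓ N).relIndex N * N.relIndex (H ⊔ N) = (H ⊓ N).relIndex (H ⊔ N) :=
    Subgroup.relIndex_mul_relIndex _ _ _ inf_le_right le_sup_right
  have h2 : (H ⊓ N).relIndex H * H.relIndex (H ⊔ N) = (H ⊓ N).relIndex (H ⊔ N) :=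
    Subgroup.relIndex_mul_relIndex _ _ _ inf_le_left le_sup_left
  rw [Subgroup.inf_relIndex_right, Subgroup.relIndex_sup_right] at h1
  rw [Subgroup.inf_relIndex_left] at h2
  have h3 : N.relIndex H ≠ 0 := Subgroup.index_ne_zero_of_finite
  have h4 : H.relIndex N = H.relIndex (H ⊔ N) := by
    apply Nat.eq_of_mul_eq_mul_right (Nat.pos_of_ne_zero h3)
    rw [h1, ← h2, mul_comm]
  rw [h4]
  exact Subgroup.relIndex_dvd_index_of_le le_sup_left |>.trans (dvd_refl _)

/-- the Sylow subgroup `P ∩ N` of a normal subgroup `N` -/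
noncomputable def sylowInf (N : Subgroup G) [N.Normal] (P : Sylow 2 G) : Sylow 2 N :=
  (P.2.comap_subtype (K := N) : IsPGroup 2 ((P : Subgroup G).subgroupOf N)).toSylow (by
    intro h
    exact P.not_dvd_index (h.trans (relIndex_dvd_index _ _)))

@[simp] theorem coe_sylowInf (N : Subgroup G) [N.Normal] (P : Sylow 2 G) :
    (sylowInf N P : Subgroup N) = (P : Subgroup G).subgroupOf N := rfl

/-- **E1** (S4582). -/
theorem elem_of_normal (N : Subgroup G) [N.Normal] (h1 : Elem N) (h2 : Elem (G ⧸ N))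
    (h3 : Odd (Nat.card (Abelianization N))) : Elem G := by
  intro P
  apply lin2_of_mem
  refine Cfsg.Agent.S4582.result N P ?_ ?_ h3
  · -- squares lie in `(P ∩ N) P'`
    intro x hx
    have h5 : Lin2 ((P : Subgroup G).map (QuotientGroup.mk' N)) :=
      h2 (P.mapSurjective (QuotientGroup.mk'_surjective N))
    have h6 : (QuotientGroup.mk' N x) ^ 2 ∈
        ⁅(P : Subgroup G).map (QuotientGroup.mk' N), (P : Subgroup G).map (QuotientGroup.mk' N)⁆ :=
      sq_mem_comm h5 ⟨x, hx, rfl⟩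
    rw [← Subgroup.map_commutator] at h6
    obtain ⟨c, hc, hcx⟩ := h6
    have hcP : c ∈ (P : Subgroup G) := Subgroup.commutator_le_self _ hc
    have h7 : x ^ 2 * c⁻¹ ∈ N := by
      rw [← QuotientGroup.eq_one_iff]
      have h8 : (QuotientGroup.mk' N) (x ^ 2 * c⁻¹) = 1 := by
        rw [map_mul, map_inv, map_pow, hcx, mul_inv_cancel]
      exact h8
    have h9 : x ^ 2 = (x ^ 2 * c⁻¹) * c := by group
    rw [h9]
    exact mul_mem (Subgroup.mem_sup_left
      ⟨(P : Subgroup G).mul_mem ((P : Subgroup G).pow_mem hx 2) ((P : Subgroup G).inv_mem hcP), h7⟩)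
      (Subgroup.mem_sup_right hc)
  · -- the Sylow subgroup `P ∩ N` of `N`
    have h5 : Lin2 ((P : Subgroup G).subgroupOf N) := h1 (sylowInf N P)
    have h6 : Lin2 ((P : Subgroup G) ⊓ N : Subgroup G) := by
      refine h5.congr ?_
      rw [← Subgroup.inf_subgroupOf_right]
      exact Subgroup.subgroupOfEquivOfLe inf_le_right
    intro x hx
    exact sq_mem_comm h6 hx

/-! #### central subgroups -/

/-- **E2**: a linear character of a Sylow subgroup of a perfect group is trivial on central elements. -/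
theorem eq_one_of_central (hG : commutator G = ⊤) (P : Sylow 2 G) (f : (P : Subgroup G) →* ℂˣ)
    (x : (P : Subgroup G)) (hx : (x : G) ∈ center G) : f x = 1 := by
  have h1 : MonoidHom.transfer f (x : G) = 1 := by
    have h2 : (x : G) ∈ (MonoidHom.transfer f).ker :=
      Abelianization.commutator_subset_ker _ (by rw [hG]; trivial)
    exact h2
  have hc : ∀ (k : ℕ) (g₀ : G), g₀⁻¹ * (x : G) ^ k * g₀ = (x : G) ^ k := by
    intro k g₀
    have h3 := (Subgroup.mem_center_iff.1 (Subgroup.pow_mem _ hx k)) g₀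
    rw [mul_assoc, ← h3, inv_mul_cancel_left]
  rw [MonoidHom.transfer_eq_pow f (x : G) fun k g₀ _ => hc k g₀] at h1
  have h4 : f x ^ (P : Subgroup G).index = 1 := by
    rw [← map_pow]
    exact h1
  obtain ⟨k, hk⟩ := P.2 x
  have h5 : f x ^ 2 ^ k = 1 := by rw [← map_pow, hk, map_one]
  have h6 : orderOf (f x) ∣ Nat.gcd (2 ^ k) (P : Subgroup G).index :=
    Nat.dvd_gcd (orderOf_dvd_of_pow_eq_one h5) (orderOf_dvd_of_pow_eq_one h4)
  have h7 : Nat.gcd (2 ^ k) (P : Subgroup G).index = 1 :=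
    Nat.Coprime.pow_left k ((Nat.Prime.coprime_iff_not_dvd Nat.prime_two).2 P.not_dvd_index)
  rwa [h7, Nat.dvd_one, orderOf_eq_one_iff] at h6

/-- **E2** -/
theorem elem_of_central (hG : commutator G = ⊤) (Z : Subgroup G) [Z.Normal] (hZ : Z ≤ center G)
    (h : Elem (G ⧸ Z)) : Elem G := fun P f x =>
  sq_of_trivial Z h P f (fun y hy => eq_one_of_central hG P f y (hZ hy)) x

/-- extensions of a group of odd order -/
theorem elem_of_odd_normal (N : Subgroup G) [N.Normal] (hN : Odd (Nat.card N)) (h : Elem (G ⧸ N)) : Elem G := by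
  refine fun P f x => sq_of_trivial N h P f (fun y hy => ?_) x
  obtain ⟨k, hk⟩ := P.2 y
  have h1 : orderOf (y : G) ∣ Nat.gcd (2 ^ k) (Nat.card N) := by
    refine Nat.dvd_gcd ?_ ?_
    · apply orderOf_dvd_of_pow_eq_one
      exact_mod_cast congrArg Subtype.val hk
    · exact Subgroup.orderOf_dvd_natCard N hy
  have h2 : Nat.gcd (2 ^ k) (Nat.card N) = 1 := Nat.Coprime.pow_left k ((Nat.coprime_two_left).2 hN)
  rw [h2, Nat.dvd_one, orderOf_eq_one_iff] at h1
  have h3 : y = 1 := Subtype.ext h1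
  rw [h3, map_one]

/-! #### extraspecial normal subgroups -/

/-- every linear character of an extraspecial group is a commutator character -/
theorem exists_comm_char {E : Type*} [Group E] [Finite E] (hE : Cfsg.IsExtraspecial 2 E) :
    ∃ ε : center E →* ℂˣ, Function.Injective ε ∧ (∀ z, ε z ^ 2 = 1) ∧ ∀ f : E →* ℂˣ, ∃ v : E,
      ∀ e : E, ∃ h : ⁅e, v⁆ ∈ center E, f e = ε ⟨⁅e, v⁆, h⟩ := by
  classical
  obtain ⟨⟨-, -, hcc⟩, hcard⟩ := hE
  have hcm : ∀ a b : E, ⁅a, b⁆ ∈ center E := fun a b => by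
    rw [← hcc]
    exact Subgroup.commutator_mem_commutator (mem_top a) (mem_top b)
  have : Fact (Nat.card (center E)).Prime := ⟨by rw [hcard]; exact Nat.prime_two⟩
  -- the faithful character of the centre
  obtain ⟨ε, hε⟩ : ∃ ε : center E →* ℂˣ, Function.Injective ε := by
    have hnt : Nontrivial (center E) := by
      rw [← Finite.one_lt_card_iff_nontrivial, hcard]
      norm_num
    obtain ⟨z, hz⟩ := exists_ne (1 : center E)
    have hcomm : ∀ a b : center E, a * b = b * a := fun a b => Subtype.ext (Subgroup.mem_center_iff.1 b.2 a)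
    let _ : CommGroup (center E) := { (inferInstance : Group (center E)) with mul_comm := hcomm }
    obtain ⟨ε, hε⟩ : ∃ φ : center E →* ℂˣ, φ z ≠ 1 :=
      CommGroup.exists_apply_ne_one_of_hasEnoughRootsOfUnity (center E) ℂ hz
    refine ⟨ε, ?_⟩
    rw [← MonoidHom.ker_eq_bot_iff]
    rcases (ε.ker).eq_bot_or_eq_top_of_prime_card with h | h
    · exact h
    · exfalso
      apply hε
      have : z ∈ ε.ker := by rw [h]; trivial
      exact this
  have hεsq : ∀ z, ε z ^ 2 = 1 := by
    intro z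
    rw [← map_pow, ← hcard, pow_card_eq_one', map_one]
  refine ⟨ε, hε, hεsq, ?_⟩
  have hmul : ∀ a b v : E, (⟨⁅a * b, v⁆, hcm _ _⟩ : center E) = ⟨⁅a, v⁆, hcm _ _⟩ * ⟨⁅b, v⁆, hcm _ _⟩ := by
    intro a b v
    apply Subtype.ext
    have h1 := (Subgroup.mem_center_iff.1 (hcm b v)) a
    have h2 : ⁅a * b, v⁆ = a * ⁅b, v⁆ * a⁻¹ * ⁅a, v⁆ := by
      simp only [commutatorElement_def]; group
    change ⁅a * b, v⁆ = ⁅a, v⁆ * ⁅b, v⁆
    rw [h2, h1, mul_inv_cancel_right, ← (Subgroup.mem_center_iff.1 (hcm b v)) ⁅a, v⁆]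
  have hmul' : ∀ a v w : E, (⟨⁅a, v * w⁆, hcm _ _⟩ : center E) = ⟨⁅a, v⁆, hcm _ _⟩ * ⟨⁅a, w⁆, hcm _ _⟩ := by
    intro a v w
    apply Subtype.ext
    have h1 := (Subgroup.mem_center_iff.1 (hcm a w)) v
    have h2 : ⁅a, v * w⁆ = ⁅a, v⁆ * (v * ⁅a, w⁆ * v⁻¹) := by
      simp only [commutatorElement_def]; group
    change ⁅a, v * w⁆ = ⁅a, v⁆ * ⁅a, w⁆
    rw [h2, h1, mul_inv_cancel_right]
  let Φ : E →* (E →* ℂˣ) :=
    { toFun := fun v =>
        { toFun := fun e => ε ⟨⁅e, v⁆, hcm _ _⟩
          map_one' := by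
            have : (⟨⁅(1 : E), v⁆, hcm _ _⟩ : center E) = 1 := Subtype.ext (commutatorElement_one_left v)
            rw [this, map_one]
          map_mul' := fun a b => by rw [hmul, map_mul] }
      map_one' := by
        ext e
        have : (⟨⁅e, (1 : E)⁆, hcm _ _⟩ : center E) = 1 := Subtype.ext (commutatorElement_one_right e)
        change ((ε ⟨⁅e, (1 : E)⁆, hcm _ _⟩ : ℂˣ) : ℂ) = 1
        rw [this, map_one]
        rfl
      map_mul' := fun v w => by
        ext e
        change ((ε ⟨⁅e, v * w⁆, hcm _ _⟩ : ℂˣ) : ℂ) = ((ε ⟨⁅e, v⁆, hcm _ _⟩ * ε ⟨⁅e, w⁆, hcm _ _⟩ : ℂˣ) : ℂ)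
        rw [hmul', map_mul] }
  have hΦ : ∀ v e, Φ v e = ε ⟨⁅e, v⁆, hcm _ _⟩ := fun v e => rfl
  have hker : Φ.ker = center E := by
    ext v
    rw [MonoidHom.mem_ker, Subgroup.mem_center_iff]
    constructor
    · intro h g
      have h1 : Φ v g = 1 := by rw [h]; rfl
      rw [hΦ, ← map_one ε] at h1
      have h2 := congrArg Subtype.val (hε h1)
      exact commutatorElement_eq_one_iff_mul_comm.1 h2
    · intro h
      ext g
      have h2 : (⟨⁅g, v⁆, hcm _ _⟩ : center E) = 1 :=
        Subtype.ext (commutatorElement_eq_one_iff_mul_comm.2 (h g))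
      rw [hΦ, h2, map_one]
      rfl
  have : Finite (Abelianization E →* ℂˣ) := by
    have := CommGroup.card_monoidHom_of_hasEnoughRootsOfUnity (Abelianization E) ℂ
    exact Nat.finite_of_card_ne_zero (by rw [this]; exact Nat.card_pos.ne')
  have : Finite (E →* ℂˣ) := Finite.of_equiv _ (Abelianization.lift (G := E) (A := ℂˣ)).symm
  have hcardhom : Nat.card (E →* ℂˣ) = Nat.card (E ⧸ center E) := by
    rw [Nat.card_congr (Abelianization.lift (G := E) (A := ℂˣ)),
      CommGroup.card_monoidHom_of_hasEnoughRootsOfUnity (Abelianization E) ℂ]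
    change Nat.card (E ⧸ commutator E) = _
    rw [hcc]
  have hsurj : Function.Surjective Φ := by
    have h1 : Nat.card Φ.range = Nat.card (E →* ℂˣ) := by
      rw [hcardhom, ← Nat.card_congr (QuotientGroup.quotientKerEquivRange Φ).toEquiv, hker]
    rw [← MonoidHom.range_eq_top]
    exact Subgroup.eq_top_of_card_eq _ h1
  intro f
  obtain ⟨v, rfl⟩ := hsurj f
  exact ⟨v, fun e => ⟨hcm _ _, rfl⟩⟩

end Normal

end Cfsg.Agent.H643.Sd
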