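import Cfsg.Agent.H643.Sd.Basic
import Cfsg.Agent.H491.Sd.GTwo
import Cfsg.Agent.S4623
import Cfsg.Agent.S4624
import Cfsg.Agent.S4625

/-!
# S4579: `Elem` for the alternating and symplectic groups, the Suzuki groups and `²F₄`
-/

set_option autoImplicit false

namespace Cfsg.Agent.H643.Sd

open Cfsg

universe u

theorem elem_of_sq {G : Type*} [Group G]
    (h : ∀ (P : Sylow 2 G) (x : (P : Subgroup G)), x ^ 2 ∈ commutator (P : Subgroup G)) : Elem G :=
  fun P => lin2_of_sq (h P)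

theorem elem_alt {S : Type*} [Group S] [Finite S] (h : Cfsg.IsAlternating S) : Elem S := by
  obtain ⟨n, -, ⟨e⟩⟩ := h
  have h1 : Elem (alternatingGroup (Fin n)) := elem_of_sq fun P => by
    obtain ⟨Q⟩ : Nonempty (Sylow 2 (Equiv.Perm (Fin n))) := inferInstance
    exact (Cfsg.Agent.S4623.result 2 n Q P).2
  exact h1.congr e.symm

theorem elem_psp {S : Type*} [Group S] [Finite S] [IsSimpleGroup S] (h : Cfsg.IsPSp S) : Elem S := by
  obtain ⟨F, _, _, m, hm, hm2, ⟨e⟩⟩ := h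
  by_cases hF : Odd (Fintype.card F)
  · have h1 : Elem (Matrix.symplecticGroup (Fin m) F) := elem_of_sq fun P =>
      Cfsg.Agent.S4624.result hF m (by omega) P
    exact (h1.quotient _).congr e.symm
  · have := Cfsg.Agent.H491.Sd.charP_two_of_not_odd hF
    exact Cfsg.Agent.H491.Sd.elem_of_char_two (Or.inr (Or.inl
      ⟨F, inferInstance, inferInstance, this, m, hm, hm2, ⟨e⟩⟩))

theorem elem_suzuki {S : Type*} [Group S] [Finite S] [IsSimpleGroup S] (h : Cfsg.Lie.IsoSuzuki S) : Elem S :=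
  Cfsg.Agent.H491.Sd.elem_of_char_two
    (Or.inr (Or.inr (Or.inr (Or.inr (Or.inr (Or.inr (Or.inr (Or.inr (Or.inl ⟨rfl, h⟩)))))))))

theorem elem_2f4 {S : Type*} [Group S] [Finite S] [IsSimpleGroup S] (h : Cfsg.Lie.Iso2F4 S) : Elem S :=
  Cfsg.Agent.H491.Sd.elem_of_char_two
    (Or.inr (Or.inr (Or.inr (Or.inr (Or.inr (Or.inr (Or.inr (Or.inr (Or.inr (Or.inl ⟨rfl, h⟩))))))))))

end Cfsg.Agent.H643.Sd
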