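import Cfsg.Agent.H643.Sd.Fam
import Cfsg.Agent.H900.Sd.Om
import Cfsg.Agent.H519.Sd.Conway
import Cfsg.Agent.H352.Sd.Big
import Cfsg.Agent.H24.Sd.MTwelve
import Cfsg.Agent.H24.Sd.Janko
import Cfsg.Agent.H96.Sd.Ru
import Cfsg.Agent.H96.Sd.Ly
import Cfsg.Agent.H567.Sd.Mathieu
import Cfsg.Agent.H567.Sd.Small
import Cfsg.Agent.H809.Sd.HS
import Cfsg.Agent.H809.Sd.McL
import Cfsg.Agent.H474.Sd.Suz
import Cfsg.Agent.H474.Sd.He
import Cfsg.Agent.H474.Sd.ON
import Cfsg.Agent.H443.Sd.HN
import Cfsg.Agent.H443.Sd.Th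
import Cfsg.Agent.H443.Sd.J4
import Cfsg.Agent.H829.Sd.Tits
import Cfsg.Agent.H559.Sd.Fi22
import Cfsg.Agent.H559.Sd.Fi23
import Cfsg.Agent.H559.Sd.Fi24
import Cfsg.Agent.H775.Sd.Rows
import Cfsg.Agent.H335.Sd.RowE6
import Cfsg.Agent.H335.Sd.RowTwE6
import Cfsg.Agent.H755.Sd.RowPSL
import Cfsg.Agent.H835.Sd.RowPSU

/-!
# S4579: all rows
-/

set_option autoImplicit false

namespace Cfsg.Agent.H643.Sd

open Cfsg

universe u

theorem elem_prime {S : Type*} [Group S] [Finite S] (h : Cfsg.IsPrimeCyclic S) : Elem S := by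
  have hp : (Nat.card S).Prime := h
  rcases hp.eq_two_or_odd' with h2 | h2
  · have hG : IsPGroup 2 S := IsPGroup.of_card (n := 1) (by rw [h2, pow_one])
    rw [elem_of_pgroup hG]
    refine lin2_of_exponent fun x => ?_
    rw [← h2]
    exact pow_card_eq_one'
  · exact elem_of_odd h2

theorem row_of_known {S : Type u} [Group S] [Finite S] [IsSimpleGroup S] (h : IsKnownSimple' S) :
    Row S := by
  rcases h with h | h | h | h | h | h | h | h | h | h
  · exact row_of_elem (elem_prime h)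
  · exact row_of_elem (elem_alt h)
  · exact H755.Sd.row_psl h
  · exact row_of_elem (elem_psp h)
  · exact H835.Sd.row_psu S h
  · exact row_of_elem (H900.Sd.elem_omega_odd h)
  · exact row_of_elem (H900.Sd.elem_omega_plus h)
  · exact row_of_elem (H900.Sd.elem_omega_minus h)
  · rcases h with h | h | h | h | h | h | h | h | h | h | h
    · exact row_of_elem (H491.Sd.elem_g2 h)
    · exact row_of_elem (H775.Sd.Rows.elem_f4 h)
    · exact H335.Sd.RowE6.row_e6 h
    · exact row_of_elem (H775.Sd.Rows.elem_e7 h)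
    · exact row_of_elem (H775.Sd.Rows.elem_e8 h)
    · exact H335.Sd.RowTwE6.row_2e6 h
    · exact row_of_elem (H491.Sd.elem_3d4 h)
    · exact row_of_elem (elem_suzuki h)
    · exact row_of_elem (H491.Sd.elem_ree h)
    · exact row_of_elem (elem_2f4 h)
    · exact H829.Sd.Tits.row_tits h
  · rcases h with h | h | h | h | h | h | h | h | h | h | h | h | h | h | h | h | h | h | h | h | h | h | h | h | h | h
    · exact row_of_elem (H567.Sd.elem_m11 h)
    · exact row_of_elem (H24.Sd.elem_m12 h)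
    · exact row_of_elem (H567.Sd.elem_m22 h)
    · exact row_of_elem (H567.Sd.elem_m23 h)
    · exact row_of_elem (H567.Sd.elem_m24 h)
    · exact row_of_elem (H567.Sd.elem_j1 h)
    · exact row_of_elem (H24.Sd.elem_j2 h)
    · exact row_of_elem (H24.Sd.elem_j3 h)
    · exact row_of_elem (H443.Sd.J4.elem_j4_of H567.Sd.elem_M24 h)
    · exact row_of_elem (H519.Sd.elem_co1 h)
    · exact row_of_elem (H519.Sd.elem_co2 h)
    · exact row_of_elem (H519.Sd.elem_co3 h)
    · exact row_of_elem (H809.Sd.McL.elem_mcl h)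
    · exact row_of_elem (H809.Sd.HS.elem_hs h)
    · exact row_of_elem (H474.Sd.elem_suz h)
    · exact row_of_elem (H474.Sd.elem_he h)
    · exact row_of_elem (H96.Sd.elem_ru h)
    · exact row_of_elem (H474.Sd.elem_on h)
    · exact row_of_elem (H96.Sd.elem_ly h)
    · exact row_of_elem (H559.Sd.elem_fi22 h)
    · exact row_of_elem (H559.Sd.elem_fi23 h)
    · exact row_of_elem (H559.Sd.elem_fi24 h)
    · exact row_of_elem (H443.Sd.HN.elem_hn h)
    · exact row_of_elem (H443.Sd.Th.elem_th h)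
    · exact row_of_elem (H352.Sd.elem_b H519.Sd.elem_Co2 h)
    · exact row_of_elem (H352.Sd.elem_m H519.Sd.elem_Co1 h)

end Cfsg.Agent.H643.Sd
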